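import Groth.Agent.H1CMDim.Basic
import Groth.Agent.H1GeomRk.Open
import Groth.Agent.DimFormula.Equidim
import Groth.Agent.DimFormula.ClosedSub
import Groth.Agent.FlatDvrVC5.UnivOpenFlat
import Groth.Agent.FlatLocus.Basic
import Groth.Agent.H1Sect.DvrComp
import Groth.Agent.Triage.CMMor
import Groth.Agent.H23.RedSub

/-!
# Universally open morphisms with reduced equidimensional fibres are equidimensional
-/

set_option autoImplicit false
set_option linter.style.haveILetI false
set_option backward.isDefEq.respectTransparency.types false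
set_option maxHeartbeats 1000000

universe u

open AlgebraicGeometry CategoryTheory CategoryTheory.Limits

namespace Groth.Agent.H1EqOpen

open DimFormula (cd codim fb)

/-- In a reduced Noetherian ring the associated primes are minimal. -/
theorem mem_minimalPrimes_of_reduced (R : Type u) [CommRing R] [IsNoetherianRing R] [IsReduced R]
    (p : Ideal R) (hp : p ∈ associatedPrimes R R) : p ∈ minimalPrimes R := by
  obtain ⟨hprime, z, hz⟩ := Groth.Agent.Alg6.mem_ass_iff.1 hp
  have hz0 : z ≠ 0 := fun h => hprime.ne_top <| (Ideal.eq_top_iff_one p).2 ((hz 1).2 (by rw [h, smul_zero]))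
  obtain ⟨q, hq, hzq⟩ : ∃ q ∈ minimalPrimes R, z ∉ q := by
    by_contra hcon
    push Not at hcon
    refine hz0 ?_
    have h : z ∈ sInf (⊥ : Ideal R).minimalPrimes := Submodule.mem_sInf.2 hcon
    rw [Ideal.sInf_minimalPrimes] at h
    obtain ⟨n, hn⟩ := h
    exact eq_zero_of_pow_eq_zero ((Submodule.mem_bot R).1 hn)
  have hle : p ≤ q := fun a ha => by
    have h := (hz a).1 ha
    rw [smul_eq_mul] at h
    exact ((hq.1.1.mem_or_mem (h ▸ q.zero_mem : a * z ∈ q))).resolve_right hzq
  exact le_antisymm hle (hq.2 ⟨hprime, bot_le⟩ hle) ▸ hq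

variable {X Y : Scheme.{u}} (f : X ⟶ Y) [LocallyOfFiniteType f]

/-- The dimension of the components of a fibre through a point. -/
theorem rd_eq_of_components (x : X) (e : ℕ)
    (h : ∀ Z ∈ irreducibleComponents (↥(f.fiber (f.base x)) : Type u), f.asFiber x ∈ Z →
      topologicalKrullDim (↥Z : Type u) = e) :
    ∀ z, z ⤳ x → f z = f x → FibDim.FibMax f z → FibDim.rd f z = e := by
  intro z hz hfz hm
  obtain ⟨w, rfl⟩ : z ∈ Set.range (f.fiberι (f.base x)) := by rw [Scheme.Hom.range_fiberι]; exact hfz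
  have hw : w ⤳ f.asFiber x := by
    rw [← FibDim.fiberι_specializes_iff f, f.fiberι_asFiber]; exact hz
  have h1 := h (closure {w}) (FDescent.closure_mem_irreducibleComponents ((FibDim.fibMax_fiberι_iff f w).1 hm))
    (specializes_iff_mem_closure.1 hw)
  rw [VarDim.topologicalKrullDim_closure_singleton (k := Y.residueField _)
    (f.fiberToSpecResidueField _), FibDim.deg_fiber] at h1
  exact_mod_cast h1

/-- A point whose fibre is reduced with components of one dimension. -/
theorem eqNoEmb_of_reduced (x : X) (e : ℕ)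
    (he : ∀ z, z ⤳ x → f z = f x → FibDim.FibMax f z → FibDim.rd f z = e)
    (hred : _root_.IsReduced ((f.fiber (f.base x)).presheaf.stalk (f.asFiber x))) :
    H1GeomRk.EqNoEmb f x := by
  haveI : IsLocallyNoetherian (f.fiber (f.base x)) :=
    LocallyOfFiniteType.isLocallyNoetherian (f.fiberToSpecResidueField (f.base x))
  refine ⟨(DimFormula.isEquidim_iff _).2 fun η hη hmax => ?_, mem_minimalPrimes_of_reduced _⟩
  have key : ∀ η, η ⤳ f.asFiber x → (∀ z, z ⤳ η → z = η) → cd η (f.asFiber x) + FibDim.rd f x = e := by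
    intro η hη hmax
    have h1 : f.fiberι (f.base x) η ⤳ x := by
      have := hη.map (f.fiberι (f.base x)).continuous
      rwa [f.fiberι_asFiber] at this
    have h2 : f (f.fiberι (f.base x) η) = f x := FibDim.fiber_apply_fiberι f η
    have h3 := DimFormula.cd_add_rd_of_fibre f h1 h2
    rw [he _ h1 h2 ((FibDim.fibMax_fiberι_iff f η).2 hmax)] at h3
    rw [← DimFormula.cd_fiberι, f.fiberι_asFiber]
    exact h3
  obtain ⟨η₀, hη₀, hmax₀, he₀⟩ := DimFormula.exists_maximal_cd_eq_codim (f.asFiber x)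
  have := key η hη hmax
  have := key η₀ hη₀ hmax₀
  omega

/-- The fibre stalk does not change on an open subscheme. -/
theorem exists_equiv_fibre_stalk_opens (U : X.Opens) (u : (U : Scheme.{u})) :
    Nonempty (((U.ι ≫ f).fiber ((U.ι ≫ f).base u)).presheaf.stalk ((U.ι ≫ f).asFiber u) ≃+*
      (f.fiber (f.base (U.ι u))).presheaf.stalk (f.asFiber (U.ι u))) := by
  obtain ⟨a⟩ := Triage.CMMor.exists_equiv_fibre_stalk (U.ι ≫ f) u
  obtain ⟨b⟩ := Triage.CMMor.exists_equiv_fibre_stalk f (U.ι u)
  refine ⟨a.symm.trans (RingEquiv.trans ?_ b)⟩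
  refine (Ideal.quotientEquiv _ _ (asIso (U.ι.stalkMap u)).commRingCatIsoToRingEquiv ?_).symm
  rw [Scheme.Hom.stalkMap_comp]
  exact (Ideal.map_map _ _).symm

/-- The reduced base case. -/
theorem spec_of_flat [IsLocallyNoetherian Y] (x : X) (hflat : (f.stalkMap x).hom.Flat)
    (hred : _root_.IsReduced ((f.fiber (f.base x)).presheaf.stalk (f.asFiber x))) (e : ℕ)
    (he : ∀ z, z ⤳ x → f z = f x → FibDim.FibMax f z → FibDim.rd f z = e)
    (η : X) (hη : η ⤳ x) (hmax : ∀ z, z ⤳ η → z = η) :
    (∀ y, y ⤳ f η → y = f η) ∧ FibDim.rd f η = e := by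
  let U : X.Opens := ⟨{z | (f.stalkMap z).hom.Flat}, FlatLocus.isOpen_flat_locus f⟩
  let g : (U : Scheme.{u}) ⟶ Y := U.ι ≫ f
  haveI : Flat g := by
    rw [Flat.iff_flat_stalkMap]
    intro v
    rw [Scheme.Hom.stalkMap_comp]
    exact (FlatLocus.flat_comp_isIso _ _).2 v.2
  have hηU : η ∈ U := hη.mem_open U.isOpen hflat
  let v : (U : Scheme.{u}) := ⟨η, hηU⟩
  let u : (U : Scheme.{u}) := ⟨x, hflat⟩
  have hvu : v ⤳ u := U.ι.isOpenEmbedding.isInducing.specializes_iff.1 hη
  refine ⟨fun y hy => ?_, ?_⟩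
  · obtain ⟨ζ, hζ, rfl⟩ := FibDim.lifts_of_flat_stalk f hηU (specializes_refl η) hy
    rw [hmax ζ hζ]
  have heg : ∀ z, z ⤳ u → g z = g u → FibDim.FibMax g z → FibDim.rd g z = e := fun z hz hgz hm => by
    rw [FibDim.rd_opens]
    exact he _ (hz.map U.ι.continuous) hgz ((FibDim.fibMax_opens_iff f U z).1 hm)
  obtain ⟨iso⟩ := exists_equiv_fibre_stalk_opens f U u
  haveI : _root_.IsReduced ((f.fiber (f.base (U.ι u))).presheaf.stalk (f.asFiber (U.ι u))) := hred
  have hredg : _root_.IsReduced ((g.fiber (g.base u)).presheaf.stalk (g.asFiber u)) :=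
    isReduced_of_injective iso.toRingHom iso.injective
  obtain ⟨e', he'⟩ := H1GeomRk.exists_xassGen_of_eqNoEmb g u (eqNoEmb_of_reduced g u e heg hredg)
  have hP : H1CMDim.Pure g e' u := fun t ht hgt ha => he' t ht hgt ha
  obtain ⟨z, hz, hgz, hzm, -⟩ := FibDim.exists_fibMax_generization g u
  have hee : e' = e := by
    have h1 : (FibDim.rd g z : ℕ∞) = e' := hP z hz hgz (H1CMDim.xass_of_fibMax g hzm)
    rw [heg z hz hgz hzm] at h1
    exact_mod_cast h1.symm
  have hvP : H1CMDim.Pure g e' v := hvu.mem_open (H1CMDim.isOpen_pure g e') hP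
  have hvm : FibDim.FibMax g v := (FibDim.fibMax_opens_iff f U v).2 (FibDim.fibMax_of_maximal f hmax)
  have h2 : (FibDim.rd g v : ℕ∞) = e' := hvP v (specializes_refl v) rfl (H1CMDim.xass_of_fibMax g hvm)
  rw [FibDim.rd_opens, hee] at h2
  exact_mod_cast h2

omit [LocallyOfFiniteType f] in
theorem geomReducedAt_congr {y y' : Y} {w : ↥(f.fiber y)} {w' : ↥(f.fiber y')}
    (hw : f.fiberι y w = f.fiberι y' w') (hy : y = y')
    (h : FBase.IsGeomReducedAt (f.fiberToSpecResidueField y') w') :
    FBase.IsGeomReducedAt (f.fiberToSpecResidueField y) w := by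
  subst hy
  rwa [(f.fiberι y).isEmbedding.injective hw]

/-- EGA IV 14.3: universally open with geometrically reduced equidimensional fibre gives equidimensional. -/
theorem isEquidimAt_of_univOpen [IsLocallyNoetherian Y] (x : X)
    (hopen : ∀ z : ↥(f.fiber (f.base x)), f.asFiber x ∈ closure {z} →
      (∀ z' : ↥(f.fiber (f.base x)), z ∈ closure {z'} → z' = z) →
      EGA43.IsUnivOpenAt f ((f.fiberι (f.base x)).base z))
    (hred : FBase.IsGeomReducedAt (f.fiberToSpecResidueField (f.base x)) (f.asFiber x))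
    (e : ℕ) (heq : ∀ Z ∈ irreducibleComponents (↥(f.fiber (f.base x)) : Type u), f.asFiber x ∈ Z →
      topologicalKrullDim (↥Z : Type u) = e) :
    EGA43.IsEquidimAt f x := by
  have he := rd_eq_of_components f x e heq
  let I := Scheme.IdealSheafData.vanishingIdeal (⊤ : TopologicalSpace.Closeds Y)
  let r : I.subscheme ⟶ Y := I.subschemeι
  haveI : IsReduced I.subscheme := H23.RedSub.isReduced_vanishingIdeal _
  have hr : Function.Surjective r := by
    rw [← Set.range_eq_univ, DimFormula.range_vanishingIdeal]; rfl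
  haveI : Surjective r := ⟨hr⟩
  haveI : IsLocallyNoetherian I.subscheme := LocallyOfFiniteType.isLocallyNoetherian r
  let p : pullback f r ⟶ X := pullback.fst f r
  let q : pullback f r ⟶ I.subscheme := pullback.snd f r
  have hp : Function.Surjective p := Surjective.surj
  obtain ⟨x', hx'⟩ := hp x
  have hpi : Function.Injective p := p.isClosedEmbedding.injective
  have hri : Function.Injective r := r.isClosedEmbedding.injective
  have hcomm : ∀ t, f (p t) = r (q t) := fun t => by
    rw [← Scheme.Hom.comp_apply, pullback.condition, Scheme.Hom.comp_apply]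
  have hsp : ∀ a b, p a ⤳ p b ↔ a ⤳ b := fun a b => p.isClosedEmbedding.isInducing.specializes_iff
  have hrd : ∀ t, FibDim.rd q t = FibDim.rd f (p t) := fun t =>
    le_antisymm (FibDim.rd_baseChange_le (IsPullback.of_hasPullback f r) t) (by
      obtain ⟨t', h1, -, h3⟩ :=
        FibDim.exists_rd_baseChange_eq (IsPullback.of_hasPullback f r) (p t) (q t) (hcomm t)
      rw [← h3, hpi h1])
  have hfm : ∀ t, FibDim.FibMax q t ↔ FibDim.FibMax f (p t) := fun t =>
    ⟨FibDim.fibMax_of_baseChange (IsPullback.of_hasPullback f r), fun h z hz hqz => hpi (h (p z)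
      (hz.map p.continuous) (by rw [hcomm, hcomm, hqz]))⟩
  have hqx : ∀ t, q t = q x' ↔ f (p t) = f x := fun t => by rw [← hx', hcomm, hcomm, hri.eq_iff]
  have hopen' : ∀ z : ↥(q.fiber (q.base x')), q.asFiber x' ∈ closure {z} →
      (∀ z' : ↥(q.fiber (q.base x')), z ∈ closure {z'} → z' = z) →
      EGA43.IsUnivOpenAt q ((q.fiberι (q.base x')).base z) := by
    intro z hz hzm Y'' g t ht
    have h1 : (q.fiberι (q.base x')) z ⤳ x' := by
      have := (specializes_iff_mem_closure.2 hz).map (q.fiberι (q.base x')).continuous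
      rwa [q.fiberι_asFiber] at this
    have h2 : f (p (q.fiberι (q.base x') z)) = f x := (hqx _).1 (FibDim.fiber_apply_fiberι q z)
    obtain ⟨w, hw⟩ : p (q.fiberι (q.base x') z) ∈ Set.range (f.fiberι (f.base x)) := by
      rw [Scheme.Hom.range_fiberι]; exact h2
    have hwm : FibDim.FibMax f (f.fiberι (f.base x) w) :=
      hw ▸ (hfm _).1 ((FibDim.fibMax_fiberι_iff' q z).2 hzm)
    have h3 := hopen w (specializes_iff_mem_closure.1 (by
        rw [← FibDim.fiberι_specializes_iff f, hw, f.fiberι_asFiber, ← hx']; exact h1.map p.continuous))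
      ((FibDim.fibMax_fiberι_iff' f w).1 hwm)
    have sq : IsPullback (pullback.fst q g ≫ p) (pullback.snd q g) f (g ≫ r) :=
      (IsPullback.of_hasPullback q g).paste_horiz (IsPullback.of_hasPullback f r)
    let i := sq.isoPullback
    have hi1 : i.hom ≫ pullback.fst f (g ≫ r) = pullback.fst q g ≫ p := sq.isoPullback_hom_fst
    have hi2 : i.hom ≫ pullback.snd f (g ≫ r) = pullback.snd q g := sq.isoPullback_hom_snd
    have h4 := h3 Y'' (g ≫ r) (i.hom t) (by
      rw [← Scheme.Hom.comp_apply, hi1, Scheme.Hom.comp_apply, ht]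
      exact hw.symm)
    intro V hV
    have hV' : i.inv ⁻¹' V ∈ nhds (i.hom t) := i.inv.continuous.continuousAt.preimage_mem_nhds (by
      rwa [← Scheme.Hom.comp_apply, Iso.hom_inv_id])
    have h5 := h4 _ hV'
    rw [← Scheme.Hom.comp_apply, hi2] at h5
    refine Filter.mem_of_superset h5 ?_
    rintro _ ⟨a, ha, rfl⟩
    refine ⟨i.inv a, ha, ?_⟩
    rw [← hi2, ← Scheme.Hom.comp_apply, Iso.inv_hom_id_assoc]
  have hred' : FBase.IsGeomReducedAt (q.fiberToSpecResidueField (q.base x')) (q.asFiber x') := by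
    obtain ⟨w, hw⟩ : x ∈ Set.range (f.fiberι (r (q x'))) := by
      rw [Scheme.Hom.range_fiberι]
      show f x = r (q x')
      rw [← hcomm, hx']
    refine H1Sect.isGeomReducedAt_fibre_baseChange f r (q x') w (q.asFiber x')
      (by rw [q.fiberι_asFiber, hw]; exact hx') ?_
    exact geomReducedAt_congr f (hw.trans (f.fiberι_asFiber x).symm) (by rw [← hcomm, hx']) hred
  haveI : IsReduced I.subscheme := inferInstance
  have hflat := FlatDvrVC5.flat_stalkMap_of_univOpen q x' hopen' hred' inferInstance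
  have hcomp : ∀ z, z ⤳ x' → q z = q x' → FibDim.FibMax q z → FibDim.rd q z = e := fun z hz hqz hm => by
    rw [hrd]
    exact he _ (hx' ▸ hz.map p.continuous) ((hqx z).1 hqz) ((hfm z).1 hm)
  have hspec := spec_of_flat q x' hflat (H1Sect.isReduced_stalk_of_geomReducedAt _ _ hred') e hcomp
  refine DimFormula.isEquidimAt_of f fun η hη hmax => ?_
  obtain ⟨η', rfl⟩ := hp η
  obtain ⟨h1, h2⟩ := hspec η' ((hsp _ _).1 (hx'.symm ▸ hη))
    fun z hz => hpi (hmax _ (hz.map p.continuous))
  refine ⟨fun y hy => ?_, ?_⟩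
  · obtain ⟨y', rfl⟩ := hr y
    rw [hcomm] at hy ⊢
    rw [h1 y' (r.isClosedEmbedding.isInducing.specializes_iff.1 hy)]
  · obtain ⟨z, hz, hfz, hzm, -, hzrd⟩ := DimFormula.exists_fibMax_top f x
    rw [← hrd, h2, ← hzrd, he z hz hfz hzm]

end Groth.Agent.H1EqOpen
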